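import Mathlib
import Cfsg.Agent.H8.T2tv
import Cfsg.Agent.H8.Anti

/-!
A two-transitive linear group with a central collineation contains the special linear group.
-/

set_option autoImplicit false

namespace Cfsg.Agent.SG

open Module Cfsg.Agent.H7

variable {F V : Type*} [Field F] [AddCommGroup V] [Module F V]

theorem cc_end [Finite F] [FiniteDimensional F V] {X : Subgroup (V ≃ₗ[F] V)}
    (hn : 3 ≤ finrank F V) (ht : H8.T2tv.T2 X) {g : V ≃ₗ[F] V} (hg : g ∈ X) {a : F} {x : V}
    {f : V →ₗ[F] F} (hx : x ≠ 0) (hf : f ≠ 0) (h : ∀ v, g v = a • v + f v • x) :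
    SLV F V ≤ X := by
  have := Fintype.ofFinite F
  obtain ⟨y, hy, hy0⟩ : ∃ y ∈ LinearMap.ker f, y ≠ 0 := by
    refine Submodule.exists_mem_ne_zero_of_ne_bot fun e => ?_
    have h1 := f.finrank_range_add_finrank_ker
    have h2 := (LinearMap.range f).finrank_le
    rw [e, finrank_bot] at h1
    rw [finrank_self] at h2
    omega
  rw [LinearMap.mem_ker] at hy
  have ha : a ≠ 0 := fun e => hy0 (g.injective (by rw [h, e, hy]; simp))
  by_cases hfx : f x = 0
  · have hk : ∀ (k : ℕ) v, (g ^ k) v = a ^ k • (v + ((k : F) * a⁻¹ * f v) • x) := fun k => by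
      induction k with
      | zero => simp
      | succ k ih =>
        intro v
        rw [pow_succ', LinearEquiv.mul_apply, ih, h]
        simp only [map_smul, map_add, hfx, smul_eq_mul, mul_zero, add_zero, Nat.cast_succ]
        match_scalars
        · ring
        · field_simp
          ring
    have h1 : ((Fintype.card F - 1 : ℕ) : F) = -1 := by
      rw [Nat.cast_sub Fintype.card_pos, FiniteField.cast_card_eq_zero]; simp
    refine H8.T2tv.SLV_le hn ht (φ := (-a⁻¹) • f) hx (smul_ne_zero (by simpa using ha) hf)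
      (by simp [hfx]) ⟨g ^ (Fintype.card F - 1), pow_mem hg _, fun v => ?_⟩
    rw [hk, FiniteField.pow_card_sub_one_eq_one a ha, one_smul, h1]
    simp
  · have hn1 : ∀ w, f w = 0 → w ≠ 0 → ∀ t : F, t • x + w ∉ F ∙ x := fun w h0 h1 t hm => by
      obtain ⟨s, hs⟩ := Submodule.mem_span_singleton.mp hm
      have h2 := congrArg f hs
      simp only [map_smul, map_add, h0, add_zero, smul_eq_mul] at h2
      rw [mul_right_cancel₀ hfx h2, left_eq_add] at hs
      exact h1 hs
    obtain ⟨k, hk, c, b, hc, hb⟩ := ht x y x (x + y) hx (by simpa using hn1 y hy hy0 0) hx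
      (by simpa using hn1 y hy hy0 1)
    have hc0 : c ≠ 0 := fun e => hx (k.injective (by simp [hc, e]))
    have hb0 : b ≠ 0 := fun e => hy0 (k.injective (by simp [hb, e]))
    have hgx : g x = (a + f x) • x := by rw [h, add_smul]
    have hd : a + f x ≠ 0 := fun e => hx (g.injective (by simp [hgx, e]))
    have hkx : k.symm x = c⁻¹ • x := k.injective (by simp [hc, hc0])
    let φ : V →ₗ[F] F := (a + f x)⁻¹ • (c • f ∘ₗ (k.symm : V →ₗ[F] V) - f)
    have hφ : ∀ v, φ v = (a + f x)⁻¹ * (c * f (k.symm v) - f v) := fun v => rfl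
    refine H8.T2tv.SLV_le hn ht (φ := φ) hx (fun e => ?_) ?_
      ⟨g⁻¹ * (k * g * k⁻¹), mul_mem (inv_mem hg) (mul_mem (mul_mem hk hg) (inv_mem hk)),
        fun v => g.injective ?_⟩
    · have := hφ (k y)
      rw [e, k.symm_apply_apply, hy, hb] at this
      simp [hy, hd, hb0, hfx] at this
    · rw [hφ, hkx]; simp [hc0]
    · rw [← LinearEquiv.mul_apply, mul_inv_cancel_left, map_add, map_smul, hgx, hφ, h v]
      change k (g (k.symm v)) = _
      rw [h, map_add, map_smul, map_smul, hc, k.apply_symm_apply]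
      match_scalars
      · ring
      · field_simp
        ring

end Cfsg.Agent.SG
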